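import Groth.Agent.AmpleX.Extend
import Groth.Agent.AmpleVan.RelVanish
import Groth.Agent.InvX.GenLocusPull
import Groth.Agent.RelVA16.FrameIso
import Groth.Agent.PBlow.Sect
import Groth.Agent.CycCov7.Scheme
import Mathlib.FieldTheory.PurelyInseparable.PerfectClosure
import Mathlib.RingTheory.Unramified.Field
import Mathlib.AlgebraicGeometry.Morphisms.Etale

/-!
# Roots of order `p` of units along finite étale covers in characteristic `p`
-/

set_option autoImplicit false
set_option backward.isDefEq.respectTransparency false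
set_option backward.isDefEq.respectTransparency.types false
set_option linter.style.haveILetI false

universe u

open CategoryTheory AlgebraicGeometry TopologicalSpace Opposite

noncomputable section

namespace Groth.Agent.PicPRoot

open Groth.Agent Groth.Agent.AModX

/-- An element of a normal domain of characteristic `p` which becomes a `p`-th power in a finite unramified
algebra with a point over the generic point is a `p`-th power. -/
theorem exists_root {A B : Type u} [CommRing A] [IsDomain A] [IsIntegrallyClosed A] [CommRing B] [Algebra A B]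
    [Algebra.FormallyUnramified A B] [Module.Finite A B] (p : ℕ) [Fact p.Prime] [CharP A p]
    (Q : Ideal B) [Q.IsPrime] (hQ : Q.comap (algebraMap A B) = ⊥) {a : A} {b : B}
    (h : b ^ p = algebraMap A B a) : ∃ w : A, w ^ p = a := by
  let C := B ⧸ Q
  let F := FractionRing C
  have hinj : Function.Injective (algebraMap A C) := by
    rw [injective_iff_map_eq_zero]
    intro x hx
    have : algebraMap A B x ∈ Q := Ideal.Quotient.eq_zero_iff_mem.1 (show Ideal.Quotient.mk Q (algebraMap A B x) = 0 from hx)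
    rwa [← Ideal.mem_comap, hQ, Ideal.mem_bot] at this
  have hinjF : Function.Injective (algebraMap A F) := by
    rw [IsScalarTower.algebraMap_eq A C F]
    exact (IsFractionRing.injective C F).comp hinj
  let K := FractionRing A
  haveI : FaithfulSMul A F := (faithfulSMul_iff_algebraMap_injective A F).2 hinjF
  letI : Algebra K F := FractionRing.liftAlgebra A F
  haveI : IsScalarTower A K F := FractionRing.isScalarTower_liftAlgebra A F
  haveI : CharP K p := charP_of_injective_algebraMap (IsFractionRing.injective A K) p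
  haveI : ExpChar K p := ExpChar.prime Fact.out
  haveI : Algebra.FormallyUnramified A C := Algebra.FormallyUnramified.comp A B C
  haveI : Algebra.FormallyUnramified C F := Algebra.FormallyUnramified.of_isLocalization (nonZeroDivisors C)
  haveI : Algebra.FormallyUnramified A F := Algebra.FormallyUnramified.comp A C F
  haveI : Algebra.FormallyUnramified K F := Algebra.FormallyUnramified.of_restrictScalars A K F
  haveI : Module.Finite A C := Module.Finite.of_surjective (Ideal.Quotient.mkₐ A Q).toLinearMap Ideal.Quotient.mk_surjective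
  haveI : Algebra.EssFiniteType C F := Algebra.EssFiniteType.of_isLocalization F (nonZeroDivisors C)
  haveI : Algebra.EssFiniteType A F := Algebra.EssFiniteType.comp A C F
  haveI : Algebra.EssFiniteType K F := Algebra.EssFiniteType.of_comp A K F
  haveI : Algebra.IsSeparable K F := Algebra.FormallyUnramified.isSeparable K F
  let β : F := algebraMap C F (Ideal.Quotient.mk Q b)
  have hβ : β ^ p = algebraMap K F (algebraMap A K a) := by
    rw [← IsScalarTower.algebraMap_apply A K F, IsScalarTower.algebraMap_apply A C F, ← map_pow, ← map_pow, h]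
    rfl
  have hmem : β ∈ (⊥ : IntermediateField K F) := by
    have h1 := IntermediateField.mem_adjoin_simple_self K β
    rw [IntermediateField.adjoin_simple_eq_adjoin_pow_expChar_of_isSeparable K F
      (Algebra.IsSeparable.isSeparable K β) p, hβ] at h1
    rwa [IntermediateField.adjoin_simple_eq_bot_iff.2 (IntermediateField.algebraMap_mem _ _)] at h1
  obtain ⟨γ, hγ⟩ := IntermediateField.mem_bot.1 hmem
  have hγp : γ ^ p = algebraMap A K a := (algebraMap K F).injective (by rw [map_pow, hγ, hβ])
  obtain ⟨w, hw⟩ := IsIntegrallyClosed.exists_algebraMap_eq_of_isIntegral_pow (R := A) (K := K) (n := p)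
    (Fact.out : p.Prime).pos (x := γ) (hγp ▸ isIntegral_algebraMap)
  exact ⟨w, IsFractionRing.injective A K (by rw [map_pow, hw, hγp])⟩

theorem isIntegrallyClosed_Γ {X : Scheme.{u}} [IsIntegral X] (hX : Pi1.IsNormalScheme X) {U : X.Opens}
    (hU : IsAffineOpen U) [Nonempty U] : IsIntegrallyClosed Γ(X, U) :=
  IsIntegrallyClosed.of_localization_maximal fun m _ _ => (CycCov7.isNormal_Γ hX hU m).2

variable {X X' : Scheme.{u}} [IsIntegral X] (f : X' ⟶ X) [IsFinite f] [Etale f]

/-- A unit on an affine open which becomes a `p`-th power on the preimage in a finite étale cover is one. -/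
theorem exists_root_app (hX : Pi1.IsNormalScheme X) [Nonempty X'] (p : ℕ) [Fact p.Prime] {U : X.Opens}
    (hU : IsAffineOpen U) [Nonempty U] [CharP Γ(X, U) p] {a : Γ(X, U)} {b : Γ(X', f ⁻¹ᵁ U)}
    (h : b ^ p = f.app U a) : ∃ w : Γ(X, U), w ^ p = a := by
  haveI : IsIntegrallyClosed Γ(X, U) := isIntegrallyClosed_Γ hX hU
  have hV : IsAffineOpen (f ⁻¹ᵁ U) := hU.preimage f
  letI := (f.app U).hom.toAlgebra
  have hfin : (f.app U).hom.Finite := f.finite_app U hU
  haveI : Module.Finite Γ(X, U) Γ(X', f ⁻¹ᵁ U) := hfin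
  have he : (f.app U).hom.Etale := by
    have := f.etale_appLE hU hV le_rfl
    rwa [← Scheme.Hom.app_eq_appLE] at this
  haveI : Algebra.Etale Γ(X, U) Γ(X', f ⁻¹ᵁ U) := he
  haveI : Surjective f := ⟨fun x => by
    have hc : IsClopen (Set.range f) := ⟨f.isClosedMap.isClosed_range, f.isOpenMap.isOpen_range⟩
    exact ((isClopen_iff.1 hc).resolve_left (Set.range_nonempty f).ne_empty).ge (Set.mem_univ x)⟩
  let S := Spec.map (f.app U)
  obtain ⟨Q, hQ⟩ : ∃ Q : PrimeSpectrum Γ(X', f ⁻¹ᵁ U), (Q.comap (f.app U).hom) = (⊥ : PrimeSpectrum Γ(X, U)) := by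
    obtain ⟨x', hx'⟩ := f.surjective (hU.fromSpec (⊥ : PrimeSpectrum Γ(X, U)))
    have hmem : x' ∈ f ⁻¹ᵁ U := by
      show f x' ∈ U
      rw [hx']
      exact hU.range_fromSpec.le ⟨_, rfl⟩
    obtain ⟨Q, rfl⟩ := hV.range_fromSpec.ge hmem
    refine ⟨Q, hU.fromSpec.isOpenEmbedding.injective ?_⟩
    have hcomp : Spec.map (f.appLE U (f ⁻¹ᵁ U) le_rfl) ≫ hU.fromSpec = hV.fromSpec ≫ f :=
      hU.SpecMap_appLE_fromSpec f hV le_rfl
    rw [← Scheme.Hom.app_eq_appLE] at hcomp
    exact (congr(($hcomp) Q) :).trans hx'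
  exact exists_root p Q.asIdeal (congrArg PrimeSpectrum.asIdeal hQ) h

/-- The main statement: a module of exponent `p` trivialised by a finite étale cover with enough roots is
trivial. -/
theorem nonempty_iso (hX : Pi1.IsNormalScheme X) [Nonempty X'] (p : ℕ) [Fact p.Prime] [CharP Γ(X, ⊤) p]
    (hroot : ∀ u : Γ(X', ⊤), IsUnit u → ∃ v : Γ(X', ⊤), v ^ p = u) {M : X.Modules} (hM : PicF.IsInvertible M)
    (e : CohB1.tensorPow M p ≅ Coh.structureModule X)
    (t : (Scheme.Modules.pullback f).obj M ≅ Coh.structureModule X') :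
    Nonempty (M ≅ Coh.structureModule X) := by
  classical
  let ι := {q : Σ U : X.Opens, Γ(M, U) // IsAffineOpen q.1 ∧ Nonempty q.1 ∧ InvX.IsFrame q.2}
  let U : ι → X.Opens := fun i => i.1.1
  let s : ∀ i : ι, Γ(M, U i) := fun i => i.1.2
  have hs : ∀ i, InvX.IsFrame (s i) := fun i => i.2.2.2
  have hcov : ∀ x : X, ∃ i, x ∈ U i := fun x => by
    obtain ⟨V, hxV, e₀, he₀⟩ := InvX.exists_frame hM x
    obtain ⟨W, hW, hxW, hWV⟩ := exists_isAffineOpen_mem_and_subset (x := x) (U := V) hxV
    exact ⟨⟨⟨W, res M hWV e₀⟩, hW, ⟨⟨x, hxW⟩⟩, he₀.res hWV⟩, hxW⟩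
  -- the global frame of the p-th power
  let σ : Γ(CohB1.tensorPow M p, ⊤) := e.inv.app ⊤ (show Γ(Coh.structureModule X, ⊤) from (1 : Γ(X, ⊤)))
  have hσ : InvX.IsFrame σ := (InvX.isFrame_one ⊤).map_iso e.symm
  have hcoord : ∀ i, ∃ a : Γ(X, U i), res (CohB1.tensorPow M p) le_top σ = a • AmpleX.powElt (s i) p := fun i => by
    obtain ⟨a, ha⟩ := (AmpleX.isFrame_powElt (hs i) p).exists_coord le_rfl (res _ le_top σ)
    rw [res_self] at ha
    exact ⟨a, ha⟩
  choose a ha using hcoord
  -- the trivialisation upstairs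
  let τ : Γ((Scheme.Modules.pullback f).obj M, ⊤) :=
    t.inv.app ⊤ (show Γ(Coh.structureModule X', ⊤) from (1 : Γ(X', ⊤)))
  have hτ : InvX.IsFrame τ := (InvX.isFrame_one ⊤).map_iso t.symm
  have hcoord' : ∀ i, ∃ b : Γ(X', f ⁻¹ᵁ U i),
      InvX.pullElt f (s i) = b • res _ (le_top : f ⁻¹ᵁ U i ≤ ⊤) τ := fun i => hτ.exists_coord le_top _
  choose b hb using hcoord'
  have hbunit : ∀ i, IsUnit (b i) := fun i => by
    obtain ⟨c, hc⟩ := (InvX.isFrame_pullElt f (hs i)).exists_coord le_rfl (res _ (le_top : f ⁻¹ᵁ U i ≤ ⊤) τ)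
    rw [res_self, hb i, ← mul_smul] at hc
    have h1 : (1 : Γ(X', f ⁻¹ᵁ U i)) = c * b i := hτ.coord_unique le_top ((one_smul _ _).trans hc)
    exact isUnit_of_mul_isUnit_right (h1 ▸ isUnit_one)
  -- the products glue to a global unit
  let u₀ : ∀ i, Γ(X', f ⁻¹ᵁ U i) := fun i => f.app (U i) (a i) * b i ^ p
  have hu₀ : ∀ i, IsUnit (u₀ i) := fun i => by
    refine IsUnit.mul (IsUnit.map _ ?_) ((hbunit i).pow p)
    obtain ⟨c, hc⟩ := (hσ.res (le_top : U i ≤ ⊤)).exists_coord le_rfl (AmpleX.powElt (s i) p)
    rw [res_self, ha i, ← mul_smul] at hc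
    have h1 : (1 : Γ(X, U i)) = c * a i := by
      refine (AmpleX.isFrame_powElt (hs i) p).coord_unique le_rfl ?_
      rw [one_smul, res_self]
      exact hc
    exact isUnit_of_mul_isUnit_right (h1 ▸ isUnit_one)
  have htrans : ∀ i j (W : X.Opens) (hi : W ≤ U i) (hj : W ≤ U j) (g : Γ(X, W)),
      res M hj (s j) = g • res M hi (s i) →
      resR hi (a i) = resR hj (a j) * g ^ p ∧
        resR (f.preimage_mono hj) (b j) = f.app W g * resR (f.preimage_mono hi) (b i) := by
    intro i j W hi hj g hg
    constructor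
    · have h1 := congrArg (res (CohB1.tensorPow M p) hi) (ha i)
      have h2 := congrArg (res (CohB1.tensorPow M p) hj) (ha j)
      rw [res_res, res_smul, AmpleX.res_powElt] at h1 h2
      rw [hg, AmpleX.powElt_smul, ← mul_smul, ← AmpleX.res_powElt] at h2
      rw [← AmpleX.res_powElt] at h1
      exact (AmpleX.isFrame_powElt (hs i) p).coord_unique hi (h1.symm.trans h2)
    · refine hτ.coord_unique le_top ?_
      have h1 := congrArg (res ((Scheme.Modules.pullback f).obj M) (f.preimage_mono hi)) (hb i)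
      have h2 := congrArg (res ((Scheme.Modules.pullback f).obj M) (f.preimage_mono hj)) (hb j)
      rw [InvX.res_pullElt f hi, res_smul, res_res] at h1
      rw [InvX.res_pullElt f hj, res_smul, res_res] at h2
      rw [hg, InvX.pullElt_smul, h1, ← mul_smul] at h2
      exact h2.symm
  obtain ⟨u, hu, -⟩ := existsUnique_glue (M := Coh.structureModule X') (V := (⊤ : X'.Opens))
    (fun i => f ⁻¹ᵁ U i) (fun _ => le_top) (fun x _ => hcov (f x)) u₀ fun i j => by
      obtain ⟨g, hg⟩ := (hs i).exists_coord (inf_le_left : U i ⊓ U j ≤ U i) (res M (inf_le_right : U i ⊓ U j ≤ U j) (s j))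
      obtain ⟨h1, h2⟩ := htrans i j (U i ⊓ U j) inf_le_left inf_le_right g hg
      show resR (f.preimage_mono (inf_le_left : U i ⊓ U j ≤ U i)) (u₀ i) =
        resR (f.preimage_mono (inf_le_right : U i ⊓ U j ≤ U j)) (u₀ j)
      have happ : ∀ (V : X.Opens) (hV : U i ⊓ U j ≤ V) (c : Γ(X, V)),
          resR (f.preimage_mono hV) (f.app V c) = f.app (U i ⊓ U j) (resR hV c) := fun V hV c =>
        (ConcreteCategory.congr_hom (f.naturality (homOfLE hV).op) c).symm
      simp only [u₀, map_mul, map_pow]
      rw [happ _ inf_le_left, happ _ inf_le_right, h1, h2, map_mul, map_pow]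
      ring
  have hu' : ∀ i, resR (le_top : f ⁻¹ᵁ U i ≤ ⊤) (show Γ(X', ⊤) from u) = u₀ i := hu
  have huu : IsUnit (show Γ(X', ⊤) from u) := by
    refine RingedSpace.isUnit_of_isUnit_germ X'.toRingedSpace ⊤ _ fun x hx => ?_
    obtain ⟨i, hi⟩ := hcov (f x)
    have h1 := (hu₀ i).map (X'.presheaf.germ (f ⁻¹ᵁ U i) x hi).hom
    rw [← hu' i] at h1
    erw [TopCat.Presheaf.germ_res_apply] at h1
    exact h1
  obtain ⟨v, hv⟩ := hroot _ huu
  have hroots : ∀ i, ∃ w : Γ(X, U i), w ^ p = a i := fun i => by
    haveI := i.2.2.1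
    haveI : Nonempty (U i) := i.2.2.1
    haveI : CharP Γ(X, U i) p := charP_of_injective_ringHom (f := resR (le_top : U i ≤ ⊤))
      (map_injective_of_isIntegral X (homOfLE le_top)) p
    obtain ⟨c, hc⟩ := (hbunit i).exists_left_inv
    refine exists_root_app f hX p i.2.1 (b := resR (le_top : f ⁻¹ᵁ U i ≤ ⊤) v * c) ?_
    rw [mul_pow, ← map_pow, hv, hu' i, mul_assoc, ← mul_pow, mul_comm (b i), hc, one_pow, mul_one]
  choose w hw using hroots
  have hn : ∀ i, InvX.IsFrame (w i • s i) := fun i => (hs i).isUnit_smul (by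
    refine (isUnit_pow_iff (Fact.out : p.Prime).ne_zero).1 (hw i ▸ ?_)
    obtain ⟨c, hc⟩ := (hσ.res (le_top : U i ≤ ⊤)).exists_coord le_rfl (AmpleX.powElt (s i) p)
    rw [res_self, ha i, ← mul_smul] at hc
    have h1 : (1 : Γ(X, U i)) = c * a i := by
      refine (AmpleX.isFrame_powElt (hs i) p).coord_unique le_rfl ?_
      rw [one_smul, res_self]
      exact hc
    exact isUnit_of_mul_isUnit_right (h1 ▸ isUnit_one))
  obtain ⟨φ, -⟩ := RelVA16.exists_iso_of_frames (M := M) (N := Coh.structureModule X) U hcov (fun i => w i • s i) hn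
    (fun i => (show Γ(Coh.structureModule X, U i) from (1 : Γ(X, U i)))) (fun i => InvX.isFrame_one _)
    fun i j W hi hj g hg => by
      suffices hg1 : g = 1 by
        rw [hg1, one_smul]
        exact (map_one (resR hj)).trans (map_one (resR hi)).symm
      by_cases hW : Nonempty W
      · haveI := hW
        haveI : CharP Γ(X, W) p := charP_of_injective_ringHom (f := resR (le_top : W ≤ ⊤))
          (map_injective_of_isIntegral X (homOfLE le_top)) p
        rw [res_smul, res_smul] at hg
        have hg' : resR hj (w j) • res M hj (s j) = (g * resR hi (w i)) • res M hi (s i) := by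
          rw [mul_smul]; exact hg
        obtain ⟨k, hk⟩ := (hs i).exists_coord hi (res M hj (s j))
        obtain ⟨h1, -⟩ := htrans i j W hi hj k hk
        rw [hk, ← mul_smul] at hg'
        have h3 := congrArg (· ^ p) ((hs i).coord_unique hi hg')
        simp only [mul_pow, ← map_pow, hw] at h3
        rw [h1] at h3
        have hne : resR hj (a j) * k ^ p ≠ 0 := by
          rw [← h1, ← hw i, map_pow]
          refine pow_ne_zero _ fun h0 => ?_
          obtain ⟨c, hc⟩ := (hn i).exists_coord hi (res M hi (s i))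
          rw [res_smul, h0, zero_smul, smul_zero] at hc
          exact one_ne_zero ((hs i).coord_unique hi (r := 1) (r' := 0) (by rw [one_smul, zero_smul]; exact hc))
        have hgp : g ^ p = 1 := by
          refine mul_right_cancel₀ hne ?_
          rw [one_mul]
          exact h3.symm
        exact frobenius_inj Γ(X, W) p (by simp [frobenius_def, hgp])
      · haveI : Subsingleton Γ(X, W) := by
          have hbot : W = ⊥ := Opens.ext (Set.eq_empty_iff_forall_notMem.2 fun x hx => hW ⟨⟨x, hx⟩⟩)
          subst hbot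
          exact CommRingCat.subsingleton_of_isTerminal X.sheaf.isTerminalOfEmpty
        exact Subsingleton.elim _ _
  exact ⟨φ⟩

end Groth.Agent.PicPRoot
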